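import Groth.Agent.GorLib.Scheme
import Groth.Agent.FalLib.GorKills
import Groth.Agent.TransLib.SyntLCI
import Groth.Agent.S1827
import Groth.Agent.SquareLib.Curve
import Mathlib.RingTheory.KrullDimension.Polynomial

/-!
# Syntomic schemes over Gorenstein rings
-/

set_option autoImplicit false
set_option linter.style.haveILetI false
set_option maxHeartbeats 800000

universe u

open AlgebraicGeometry CategoryTheory

noncomputable section

namespace GrpGorLib

theorem isGorenstein_spec (R : Type u) [CommRing R] [LocCoh.IsGorensteinLocalRing R] :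
    Dual3.IsGorenstein (Spec (CommRingCat.of R)) := by
  haveI := FalLib.isGorensteinRing_of_local R
  refine GorLib.isGorenstein_of_cover fun x =>
    ⟨⟨⊤, isAffineOpen_top (Spec (CommRingCat.of R))⟩, trivial,
      GorLib.gorensteinRing_of_ringEquiv (S := R) (Scheme.ΓSpecIso (CommRingCat.of R)).commRingCatIsoToRingEquiv
        inferInstance⟩

theorem ringKrullDim_finiteType_le {A B : Type u} [CommRing A] [CommRing B] [IsNoetherianRing A] [Algebra A B]
    [Algebra.FiniteType A B] (h : ringKrullDim A < ⊤) : ringKrullDim B < ⊤ := by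
  obtain ⟨n, π, hπ⟩ := Algebra.FiniteType.iff_quotient_mvPolynomial''.1 ‹Algebra.FiniteType A B›
  refine lt_of_le_of_lt ((ringKrullDim_le_of_surjective π.toRingHom hπ).trans
    (MvPolynomial.ringKrullDim_of_isNoetherianRing.le)) ?_
  rw [Nat.card_fin]
  rcases eq_or_ne (ringKrullDim A) ⊥ with hb | hb
  · rw [hb, WithBot.bot_add]; exact bot_lt_top
  obtain ⟨e, he⟩ := WithBot.ne_bot_iff_exists.1 hb
  rw [← he] at h ⊢
  have he' : e ≠ ⊤ := fun h' => h.ne (by rw [h']; rfl)
  obtain ⟨m, rfl⟩ := ENat.ne_top_iff_exists.1 he'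
  exact WithBot.coe_lt_coe.2 (by exact_mod_cast ENat.coe_lt_top (m + n))

theorem ringKrullDim_lt_top_of_local (R : Type u) [CommRing R] [IsNoetherianRing R] [IsLocalRing R] :
    ringKrullDim R < ⊤ := by
  rw [← IsLocalRing.maximalIdeal_height_eq_ringKrullDim]
  exact WithBot.coe_lt_coe.2 (lt_top_iff_ne_top.2 (Ideal.height_ne_top (IsLocalRing.maximalIdeal.isMaximal R).ne_top))

/-- The affine opens of the spectrum of a local ring have finite dimension. -/
theorem ringKrullDim_sections_lt_top (R : Type u) [CommRing R] [IsNoetherianRing R] [IsLocalRing R]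
    (V : (Spec (CommRingCat.of R)).affineOpens) : ringKrullDim Γ(Spec (CommRingCat.of R), V.1) < ⊤ := by
  refine lt_of_le_of_lt ?_ (ringKrullDim_lt_top_of_local R)
  rw [← PrimeSpectrum.topologicalKrullDim_eq_ringKrullDim, ← PrimeSpectrum.topologicalKrullDim_eq_ringKrullDim]
  exact Topology.IsInducing.topologicalKrullDim_le V.2.fromSpec.isOpenEmbedding.isInducing

/-- A syntomic scheme of finite type over a Gorenstein local ring. -/
theorem isGorenstein_of_syntomic (R : Type u) [CommRing R] [LocCoh.IsGorensteinLocalRing R] {X : Scheme.{u}}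
    (f : X ⟶ Spec (CommRingCat.of R)) [QuasiCompact f] (hf : Synt.IsSyntomicMor f) :
    Dual3.IsGorenstein X ∧ topologicalKrullDim X < ⊤ := by
  have hS := isGorenstein_spec R
  choose U V e hx h using hf
  have hgor : ∀ x, LocCoh.IsGorensteinRing Γ(X, (U x).1) := fun x => by
    letI := (f.appLE (V x).1 (U x).1 (e x)).hom.toAlgebra
    exact Groth.Agent.S1827.result _ _ (GorLib.gorensteinRing_sections hS (V x)) (TransLib.isLCI_of_isSyntomic (h x))
  refine ⟨GorLib.isGorenstein_of_cover fun x => ⟨U x, hx x, hgor x⟩, ?_⟩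
  have hdim : ∀ x, ringKrullDim Γ(X, (U x).1) < ⊤ := fun x => by
    letI := (f.appLE (V x).1 (U x).1 (e x)).hom.toAlgebra
    haveI := GorLib.gorensteinRing_sections hS (V x)
    haveI := (h x).2.1
    exact ringKrullDim_finiteType_le (ringKrullDim_sections_lt_top R (V x))
  haveI : CompactSpace X := HasAffineProperty.iff_of_isAffine (P := @QuasiCompact).1 ‹QuasiCompact f›
  obtain ⟨t, ht⟩ := isCompact_univ.elim_finite_subcover (fun x => ((U x).1 : Set X)) (fun x => (U x).1.isOpen)
    (fun x _ => Set.mem_iUnion.2 ⟨x, hx x⟩)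
  refine lt_of_le_of_lt (SquareLib.topologicalKrullDim_le_of_stalks (c := t.sup fun x => ringKrullDim Γ(X, (U x).1))
    fun y => ?_) ((Finset.sup_lt_iff (bot_lt_top)).2 fun x _ => hdim x)
  obtain ⟨x, hxt, hy⟩ := Set.mem_iUnion₂.1 (ht (Set.mem_univ y))
  refine le_trans ?_ (Finset.le_sup (f := fun x => ringKrullDim Γ(X, (U x).1)) hxt)
  letI : Algebra Γ(X, (U x).1) (X.presheaf.stalk y) := TopCat.Presheaf.algebra_section_stalk X.presheaf ⟨y, hy⟩
  haveI : IsLocalization.AtPrime (X.presheaf.stalk y) ((U x).2.primeIdealOf ⟨y, hy⟩).asIdeal :=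
    (U x).2.isLocalization_stalk ⟨y, hy⟩
  rw [IsLocalization.AtPrime.ringKrullDim_eq_height ((U x).2.primeIdealOf ⟨y, hy⟩).asIdeal (X.presheaf.stalk y)]
  exact Ideal.height_le_ringKrullDim_of_ne_top (Ideal.IsPrime.ne_top inferInstance)

end GrpGorLib
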